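import Mathlib.RingTheory.Jacobson.Radical
import Mathlib.RingTheory.SimpleRing.Basic
import Mathlib.Algebra.Module.Projective
import Mathlib.RingTheory.Finiteness.Basic
import Mathlib.RingTheory.TwoSidedIdeal.Basic
import Mathlib.RingTheory.Ideal.Quotient.Operations
import Mathlib.LinearAlgebra.Finsupp.LinearCombination

/-!
# Projective modules over rings which are simple modulo the radical
-/

set_option autoImplicit false

universe u v

namespace Groth.Agent.H14TwSh

variable (A : Type u) [Ring A] [IsSimpleRing (A ⧸ Ring.jacobson A)] (P : Type v) [AddCommGroup P] [Module A P]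
  [Module.Finite A P] [Module.Projective A P] [Nontrivial P]

lemma exists_trace_eq_one : ∃ s : Finset ((P →ₗ[A] A) × P), ∃ c : (P →ₗ[A] A) × P → A,
    ∑ t ∈ s, c t * t.1 t.2 = 1 := by
  classical
  let I : Ideal A := Submodule.span A (Set.range fun t : (P →ₗ[A] A) × P => t.1 t.2)
  have hI : ∀ x ∈ I, ∀ b : A, x * b ∈ I := by
    intro x hx b
    induction hx using Submodule.span_induction with
    | mem y hy =>
      obtain ⟨⟨f, p⟩, rfl⟩ := hy
      exact Submodule.subset_span ⟨((LinearMap.toSpanSingleton A A b).comp f, p), by simp⟩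
    | zero => simp
    | add y z _ _ hy hz => rw [add_mul]; exact I.add_mem hy hz
    | smul a y _ hy => rw [smul_eq_mul, mul_assoc]; exact I.mul_mem_left a hy
  suffices h : I = ⊤ by
    have h1 : (1 : A) ∈ I := by rw [h]; trivial
    obtain ⟨c, hc⟩ := Finsupp.mem_span_range_iff_exists_finsupp.1 h1
    exact ⟨c.support, c, hc⟩
  have hnot : ¬ I ≤ Ring.jacobson A := by
    intro hle
    have hP : (⊤ : Submodule A P) ≤ Ring.jacobson A • ⊤ := by
      intro x _
      obtain ⟨s, hs⟩ := (Module.projective_def' (R := A) (P := P)).1 inferInstance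
      have hx := LinearMap.congr_fun hs x
      simp only [LinearMap.comp_apply, LinearMap.id_apply] at hx
      rw [← hx, Finsupp.linearCombination_apply]
      exact Submodule.sum_mem _ fun p _ => Submodule.smul_mem_smul
        (hle (Submodule.subset_span ⟨((Finsupp.lapply p).comp s, x), rfl⟩)) trivial
    exact top_ne_bot (Submodule.FG.eq_bot_of_le_jacobson_smul Module.Finite.fg_top hP)
  let q := Ideal.Quotient.mk (Ring.jacobson A)
  let T : TwoSidedIdeal (A ⧸ Ring.jacobson A) := TwoSidedIdeal.mk' (q '' I)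
    ⟨0, I.zero_mem, map_zero q⟩
    (fun {x y} ⟨a, ha, ea⟩ ⟨b, hb, eb⟩ => ⟨a + b, I.add_mem ha hb, by rw [map_add, ea, eb]⟩)
    (fun {x} ⟨a, ha, ea⟩ => ⟨-a, I.neg_mem ha, by rw [map_neg, ea]⟩)
    (fun {x y} ⟨b, hb, eb⟩ => by
      obtain ⟨a, rfl⟩ := Ideal.Quotient.mk_surjective x
      exact ⟨a * b, I.mul_mem_left a hb, by rw [← eb, map_mul]⟩)
    (fun {x y} ⟨b, hb, eb⟩ => by
      obtain ⟨a, rfl⟩ := Ideal.Quotient.mk_surjective y
      exact ⟨b * a, hI b hb a, by rw [← eb, map_mul]⟩)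
  rcases eq_bot_or_eq_top T with hT | hT
  · refine absurd (fun a ha => Ideal.Quotient.eq_zero_iff_mem.1 ?_) hnot
    have h : q a ∈ T := (TwoSidedIdeal.mem_mk' _ _ _ _ _ _ _).2 ⟨a, ha, rfl⟩
    rw [hT] at h
    exact (TwoSidedIdeal.mem_bot _).1 h
  · by_contra hne
    obtain ⟨m, hm, hIm⟩ := Ideal.exists_le_maximal I hne
    have h : (1 : A ⧸ Ring.jacobson A) ∈ T := by rw [hT]; exact trivial
    obtain ⟨a, ha, ea⟩ := (TwoSidedIdeal.mem_mk' _ _ _ _ _ _ _).1 h
    have h1 : a - 1 ∈ Ring.jacobson A := Ideal.Quotient.eq.1 (ea.trans (map_one q).symm)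
    exact hm.ne_top ((Ideal.eq_top_iff_one _).2 (by
      simpa using m.sub_mem (hIm ha) (Ring.jacobson_le_of_isMaximal m h1)))

theorem existsUnique_central (u : P ≃ₗ[A] P)
    (hu : ∀ f : Module.End A P, (u : P →ₗ[A] P) ∘ₗ f = f ∘ₗ (u : P →ₗ[A] P)) :
    ∃! a : A, (∀ b : A, a * b = b * a) ∧ ∀ x : P, u x = a • x := by
  obtain ⟨s, c, hs⟩ := exists_trace_eq_one A P
  have faithful : ∀ a : A, (∀ x : P, a • x = 0) → a = 0 := fun a ha => by
    rw [← mul_one a, ← hs, Finset.mul_sum]
    refine Finset.sum_eq_zero fun t _ => ?_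
    rw [← mul_assoc, ← smul_eq_mul (a * c t), ← map_smul, mul_smul, ha, map_zero]
  let a : A := ∑ t ∈ s, t.1 (u (c t • t.2))
  have key : ∀ x : P, u x = a • x := fun x => by
    have h : ∀ t : (P →ₗ[A] A) × P, t.1 (u (c t • t.2)) • x = u ((c t * t.1 t.2) • x) := fun t => by
      have h1 := LinearMap.congr_fun (hu ((LinearMap.toSpanSingleton A P x).comp t.1)) (c t • t.2)
      simp only [LinearMap.comp_apply, LinearEquiv.coe_coe, LinearMap.toSpanSingleton_apply] at h1
      rw [← h1, map_smul t.1, smul_eq_mul]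
    rw [Finset.sum_smul, Finset.sum_congr rfl fun t _ => h t, ← map_sum, ← Finset.sum_smul, hs, one_smul]
  refine ⟨a, ⟨fun b => sub_eq_zero.1 (faithful _ fun x => ?_), key⟩, fun a' ha' =>
    sub_eq_zero.1 (faithful _ fun x => by rw [sub_smul, ← ha'.2, ← key, sub_self])⟩
  rw [sub_smul, mul_smul, mul_smul, ← key, ← key, map_smul, sub_self]

end Groth.Agent.H14TwSh
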